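import Groth.Agent.AffBlow94.ZeroDiv
import Groth.Agent.S1288
import Groth.Agent.S17381
import Groth.Agent.S1694
import Groth.Agent.S2331
import Groth.Agent.S2348
import Groth.Agent.S9802
import Groth.Agent.BlowUp.Basic
import Groth.Agent.BlowUp.RelAmple
import Groth.Agent.BlowUpProper.Basic
import Groth.Agent.AbSch51.InvSection
import Groth.Agent.AffCompl47.Compactify
import Groth.Agent.Props.AmpleProper
import Groth.Agent.BlowSep.Disjoint
import Groth.Agent.ModPairLib.Divide
import Groth.Agent.SubtrFlat.Strict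

/-!
# Affine opens of proper varieties and ample boundary divisors of blow-ups
-/

set_option autoImplicit false
set_option linter.style.haveILetI false
universe u

open CategoryTheory CategoryTheory.Limits AlgebraicGeometry TopologicalSpace

noncomputable section

namespace Groth.Agent.AffBlow94

/-- An affine integral scheme of finite type over a field is the locus of a section of an ample
module on a proper integral scheme, in which it is dense. -/
theorem exists_closure {k : Type u} [Field k] {U : Scheme.{u}} [IsAffine U] [IsIntegral U]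
    (π : U ⟶ Spec (CommRingCat.of k)) [LocallyOfFiniteType π] :
    ∃ (Y : Scheme.{u}) (q : Y ⟶ Spec (CommRingCat.of k)) (j : U ⟶ Y) (K₀ : Y.Modules)
      (s : Coh.structureModule Y ⟶ CohB1.tensorPow K₀ 1),
      IsProper q ∧ IsOpenImmersion j ∧ QuasiCompact j ∧ IsDominant j ∧ j ≫ q = π ∧ IsIntegral Y ∧
        CohB1.IsAmple K₀ ∧ (CohB1.genLocus _ s : Set Y) = Set.range j.base := by
  let φ : CommRingCat.of k ⟶ Γ(U, ⊤) := (Scheme.ΓSpecIso (CommRingCat.of k)).inv ≫ π.appTop
  have hφ : φ.hom.FiniteType := by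
    rw [CommRingCat.hom_comp]
    refine RingHom.FiniteType.comp ((HasRingHomProperty.iff_of_isAffine
      (P := @LocallyOfFiniteType)).1 inferInstance) ?_
    exact RingHom.FiniteType.of_surjective _ (Scheme.ΓSpecIso
      (CommRingCat.of k)).symm.commRingCatIsoToRingEquiv.surjective
  letI : Algebra k Γ(U, ⊤) := φ.hom.toAlgebra
  haveI : Algebra.FiniteType k Γ(U, ⊤) := hφ
  obtain ⟨N, g, hg⟩ := Algebra.FiniteType.iff_quotient_mvPolynomial''.mp ‹_›
  let g' : MvPolynomial (ULift.{u} (Fin N)) k →ₐ[k] Γ(U, ⊤) :=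
    g.comp (MvPolynomial.renameEquiv k Equiv.ulift).toAlgHom
  have hg' : Function.Surjective g' := hg.comp (MvPolynomial.renameEquiv k Equiv.ulift).surjective
  let i : U ⟶ 𝔸(ULift.{u} (Fin N); Spec (CommRingCat.of k)) :=
    U.isoSpec.hom ≫ Spec.map (CommRingCat.ofHom g'.toRingHom) ≫
      (AffineSpace.SpecIso (ULift.{u} (Fin N)) (CommRingCat.of k)).inv
  haveI : IsClosedImmersion (Spec.map (CommRingCat.ofHom g'.toRingHom)) :=
    IsClosedImmersion.spec_of_surjective _ hg'
  haveI : IsClosedImmersion i := by unfold i; infer_instance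
  let c := WDivLib.projChart N k
  have hif : i ≫ c ≫ CohB1.ProjSpace.toSpec N k = π := by
    rw [WDivLib.projChart_over]
    have h1 : CommRingCat.ofHom (MvPolynomial.C : k →+* MvPolynomial (ULift.{u} (Fin N)) k) ≫
        CommRingCat.ofHom g'.toRingHom = φ :=
      CommRingCat.hom_ext (RingHom.ext fun r => g'.commutes r)
    unfold i
    rw [Category.assoc, Category.assoc, AffineSpace.SpecIso_inv_over, ← Spec.map_comp, h1]
    unfold φ
    rw [Spec.map_comp, Scheme.isoSpec_hom_naturality_assoc, ← Scheme.isoSpec_Spec_inv, Iso.hom_inv_id,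
      Category.comp_id]
  haveI := ProjProper.Basic.isProper_toSpec N k
  haveI : LocallyOfFiniteType (CohB1.ProjSpace.toSpec N k) := inferInstance
  let f : U ⟶ CohB1.ProjSpace N k := i ≫ c
  haveI : IsImmersion f := inferInstanceAs (IsImmersion (i ≫ c))
  haveI : IsLocallyNoetherian (CohB1.ProjSpace N k) :=
    LocallyOfFiniteType.isLocallyNoetherian (CohB1.ProjSpace.toSpec N k)
  haveI : QuasiCompact f := inferInstance
  haveI : IsIntegral f.image := S9802.isIntegral_image f
  haveI : IsProper (f.imageι ≫ CohB1.ProjSpace.toSpec N k) := inferInstance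
  haveI : QuasiCompact (f.toImage ≫ f.imageι) := by rw [f.toImage_imageι]; infer_instance
  let W : (CohB1.ProjSpace N k).Opens := c.opensRange
  let e : U ⟶ W := i ≫ c.isoOpensRange.hom
  have he : e ≫ W.ι = f.toImage ≫ f.imageι := by
    rw [f.toImage_imageι]
    simp [e, W, f]
  haveI : UniversallyClosed e := inferInstance
  have hpre := AffCompl47.preimage_eq_range f.toImage f.imageι W e he
  let L₀ : (CohB1.ProjSpace N k).Modules := Twist.twistProjSpace N k 1
  have hL₀ : CohB1.IsAmple L₀ := by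
    haveI := Props.AmpleTwist.compactSpace N k
    exact Props.AmpleTwist.isAmple_twist (𝒜 := CohB1.polyGrading N k) (D := 1) Nat.one_pos
      (fun i : ULift.{u} (Fin (N + 1)) => Props.AmpleTwist.X_pow_mem N k 1 i.down)
      (Props.AmpleTwist.iSup_basicOpen_X_pow N k Nat.one_pos)
  obtain ⟨s₀, hs₀⟩ := Props.AmpleTwist.exists_section (𝒜 := CohB1.polyGrading N k) (D := 1)
    (fun i : ULift.{u} (Fin (N + 1)) => Props.AmpleTwist.X_pow_mem N k 1 i.down)
    (Props.AmpleTwist.iSup_basicOpen_X_pow N k Nat.one_pos) (WDivLib.X0_mem N k)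
  obtain ⟨s, hs, -⟩ := Props.GenPull.exists_pull f.imageι (L := L₀) hL₀.1 (K := 1) s₀
  have hgl : ((CohB1.genLocus _ s : f.image.Opens) : Set f.image) = Set.range f.toImage.base := by
    rw [hs, ← hpre]
    ext x
    show f.imageι.base x ∈ CohB1.genLocus _ s₀ ↔ f.imageι.base x ∈ W
    rw [hs₀]
    generalize f.imageι.base x = y
    exact (WDivLib.mem_range_projChart_iff N k y).symm
  have hA : CohB1.IsAmple ((Scheme.Modules.pullback f.imageι).obj L₀) :=
    AmpleLib.isAmple_pullback_of_qaMor f.imageι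
      ⟨inferInstance, fun V hV => by
        haveI : IsAffine (f.imageι ⁻¹ᵁ V : Scheme.{u}) := hV.preimage _
        infer_instance⟩ hL₀
  refine ⟨f.image, f.imageι ≫ CohB1.ProjSpace.toSpec N k, f.toImage, _, s, inferInstance,
    inferInstance, inferInstance, inferInstance, ?_, inferInstance, hA, hgl⟩
  rw [f.toImage_imageι_assoc]
  exact (Category.assoc _ _ _).trans hif

variable {k : Type u} [Field k] {X : Scheme.{u}} [X.Over (Spec (CommRingCat.of k))]
  [IsProper (X ↘ (Spec (CommRingCat.of k)))] [IsIntegral X] (U : X.Opens)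

/-- The complement of an ample divisor pulled back from the complement of `U` makes `U` affine. -/
theorem isAffineOpen_of_blowUp (𝓙 : X.IdealSheafData) (h𝓙 : (𝓙.support : Set X) ⊆ (U : Set X)ᶜ)
    {X' : Scheme.{u}} (f : X' ⟶ X) (hf : BlowUp.IsBlowUp f 𝓙)
    [IsProper (f ≫ (X ↘ (Spec (CommRingCat.of k))))]
    (D : X'.IdealSheafData) (L : X'.Modules) (hD : BlowUp.IsEffCartierIdeal D)
    (hsupp : (D.support : Set X') = (fun x => f x) ⁻¹' ((U : Set X)ᶜ))
    (hinv : ClSub.IsInverseOf L (ClSub.idealMod D)) (hL : CohB1.IsAmple L) :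
    IsAffineOpen U := by
  haveI := BlowUp.Basic.isIso_restrict hf U (Set.disjoint_left.2 fun x hx h => h𝓙 h hx)
  obtain ⟨s, hs⟩ := AbSch51.InvSection.exists_section D hD hL.1 hinv
  have haff := Props.AmpleProper.isAffineOpen_genLocus (f ≫ (X ↘ (Spec (CommRingCat.of k)))) hL s
  have he : CohB1.genLocus _ s = f ⁻¹ᵁ U := by
    apply Opens.ext
    rw [hs, hsupp, ← Set.preimage_compl, compl_compl]
    rfl
  rw [he] at haff
  haveI : IsAffine (f ⁻¹ᵁ U : Scheme.{u}) := haff
  exact IsAffine.of_isIso (inv (f ∣_ U))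

/-- The empty open. -/
theorem exists_blowUp_of_empty (hU : (U : Set X) = ∅) :
    ∃ 𝓙 : X.IdealSheafData, (𝓙.support : Set X) ⊆ (U : Set X)ᶜ ∧
      ∃ (X' : Scheme.{u}) (f : X' ⟶ X), BlowUp.IsBlowUp f 𝓙 ∧
        IsProper (f ≫ (X ↘ (Spec (CommRingCat.of k)))) ∧
        ∃ (D : X'.IdealSheafData) (L : X'.Modules), BlowUp.IsEffCartierIdeal D ∧
          (D.support : Set X') = (fun x => f x) ⁻¹' ((U : Set X)ᶜ) ∧
          ClSub.IsInverseOf L (ClSub.idealMod D) ∧ CohB1.IsAmple L := by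
  refine ⟨⊥, by rw [hU, Set.compl_empty]; exact Set.subset_univ _, ∅, Scheme.emptyTo X,
    ⟨fun x => isEmptyElim x, fun Y g hg => ?_⟩, inferInstance, 1, Coh.structureModule _,
    fun x => isEmptyElim x, ?_, VertInter.inv_one.2, LFFrame.isInvertible_structureModule _,
    inferInstance, fun x => isEmptyElim x⟩
  · have hd := SubtrFlat.dense_compl_support hg
    rw [Scheme.IdealSheafData.support_comap, Scheme.IdealSheafData.support_bot] at hd
    haveI : IsEmpty Y := ⟨fun y => by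
      have hy := hd.closure_eq ▸ Set.mem_univ y
      simp at hy⟩
    refine ⟨(isInitialOfIsEmpty (X := Y)).to _, (isInitialOfIsEmpty (X := Y)).hom_ext _ _, fun h _ =>
      (isInitialOfIsEmpty (X := Y)).hom_ext _ _⟩
  · exact Set.ext fun x => isEmptyElim x

/-- A nonempty affine open. -/
theorem exists_blowUp_of_isAffineOpen (hU : IsAffineOpen U) (hne : (U : Set X).Nonempty) :
    ∃ 𝓙 : X.IdealSheafData, (𝓙.support : Set X) ⊆ (U : Set X)ᶜ ∧
      ∃ (X' : Scheme.{u}) (f : X' ⟶ X), BlowUp.IsBlowUp f 𝓙 ∧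
        IsProper (f ≫ (X ↘ (Spec (CommRingCat.of k)))) ∧
        ∃ (D : X'.IdealSheafData) (L : X'.Modules), BlowUp.IsEffCartierIdeal D ∧
          (D.support : Set X') = (fun x => f x) ⁻¹' ((U : Set X)ᶜ) ∧
          ClSub.IsInverseOf L (ClSub.idealMod D) ∧ CohB1.IsAmple L := by
  let g := X ↘ Spec (CommRingCat.of k)
  haveI : IsAffine (U : Scheme.{u}) := hU
  haveI : Nonempty (U : Scheme.{u}) := ⟨⟨hne.some, hne.some_mem⟩⟩
  haveI : CompactSpace X := QuasiCompact.compactSpace_of_compactSpace g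
  haveI : LocallyOfFiniteType g := inferInstance
  obtain ⟨Z, q, j, K₀, s, hq, hj, hjqc, hjd, hjq, hZ, hK₀, hs⟩ :=
    exists_closure (k := k) (U.ι ≫ g)
  haveI := hq
  haveI := hj
  haveI := hjqc
  haveI := hZ
  haveI : CompactSpace Z := hK₀.2.1
  haveI : QuasiSeparatedSpace Z := quasiSeparatedSpace_of_quasiSeparated q
  -- the compactification dominates `X` after a blow-up
  obtain ⟨I, Y', b, hb, hIadm, V', hle, h, hh, kk, hk1, hk2⟩ :=
    S1288.result g U hU.isCompact j q hjq
  haveI := hh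
  have hIbot : I ≠ ⊥ := by
    intro h0
    obtain ⟨u⟩ := (inferInstance : Nonempty (U : Scheme.{u}))
    have hd : ∀ ⦃a⦄, a ∈ (I.support : Set Z) → a ∉ (j.opensRange : Set Z) := Set.disjoint_left.1 hIadm.2
    refine @hd (j u) ?_ ⟨u, rfl⟩
    rw [h0, Scheme.IdealSheafData.support_bot]; trivial
  obtain ⟨hY', -, -⟩ := S2348.result I hIbot b hb
  haveI := hY'
  haveI := BlowUpProper.Basic.isProper hb hIadm.1
  haveI := BlowUp.Basic.isIso_restrict hb j.opensRange hIadm.2.symm
  let W : Y'.Opens := b ⁻¹ᵁ j.opensRange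
  have hWne : (W : Set Y').Nonempty := by
    obtain ⟨u⟩ := (inferInstance : Nonempty (U : Scheme.{u}))
    let z := (inv (b ∣_ j.opensRange)) ⟨j u, u, rfl⟩
    exact ⟨z.1, z.2⟩
  haveI : Nonempty (V' : Scheme.{u}) := ⟨⟨hWne.some, hle hWne.some_mem⟩⟩
  haveI : IsDominant (Y'.homOfLE hle) := ⟨by
    refine ((Y'.homOfLE hle).isOpenEmbedding.isOpen_range).dense ?_
    exact ⟨_, ⟨⟨hWne.some, hWne.some_mem⟩, rfl⟩⟩⟩
  have hover : h ≫ g = V'.ι ≫ b ≫ q := by
    refine ext_of_isDominant (Y'.homOfLE hle) ?_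
    rw [reassoc_of% hk2, Scheme.homOfLE_ι_assoc, ← hjq, reassoc_of% hk1, morphismRestrict_ι_assoc]
  haveI : IsProper V'.ι := by
    haveI : IsProper (V'.ι ≫ b ≫ q) := by rw [← hover]; infer_instance
    exact IsProper.of_comp V'.ι (b ≫ q)
  have hV' : V' = ⊤ := by
    have hcl : IsClosed (V' : Set Y') := by
      have := V'.ι.isClosedMap.isClosed_range
      rwa [Scheme.Opens.range_ι] at this
    apply Opens.ext
    rw [Opens.coe_top, ← (isClopen_iff.1 ⟨hcl, V'.2⟩).resolve_left]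
    exact (hWne.mono hle).ne_empty
  subst hV'
  haveI : IsIso (⊤ : Y'.Opens).ι := Y'.topIso.isIso_hom
  let h' : Y' ⟶ X := inv (⊤ : Y'.Opens).ι ≫ h
  haveI : IsProper h' := inferInstance
  have hh' : W.ι ≫ h' = kk ≫ U.ι := by
    rw [← hk2, ← Category.assoc]
    congr 1
    rw [IsIso.comp_inv_eq, Scheme.homOfLE_ι]
  have hkk : kk = (b ∣_ j.opensRange) ≫ j.isoOpensRange.inv := by
    rw [← cancel_mono j, hk1, Category.assoc, j.isoOpensRange_inv_comp]
  haveI : IsIso kk := by rw [hkk]; infer_instance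
  haveI : IsDominant W.ι := ⟨by
    refine (W.ι.isOpenEmbedding.isOpen_range).dense ?_
    rw [Scheme.Opens.range_ι]; exact hWne⟩
  have hpre : h' ⁻¹ᵁ U = W := by
    apply Opens.ext
    show h'.base ⁻¹' (U : Set X) = _
    rw [AffCompl47.preimage_eq_range W.ι h' U kk hh'.symm, Scheme.Opens.range_ι]
  have hres : h' ∣_ U = (Y'.isoOfEq hpre).hom ≫ kk := by
    rw [← cancel_mono U.ι, morphismRestrict_ι, Category.assoc, ← hh', Scheme.isoOfEq_hom_ι_assoc]
  haveI : IsIso (h' ∣_ U) := by rw [hres]; infer_instance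
  have hdense : Dense ((h' ⁻¹ᵁ U : Y'.Opens) : Set Y') := by
    rw [hpre]; exact W.2.dense hWne
  haveI : QuasiSeparatedSpace X := quasiSeparatedSpace_of_quasiSeparated g
  obtain ⟨I', J, Y, c, hc, hcadm, hcf, hJadm⟩ :=
    S17381.result h' U hU.isCompact (U.2.dense hne) hdense
  haveI := BlowUpProper.Basic.isProper hc hcadm.1
  have hI'bot : I' ≠ ⊥ := by
    intro h0
    have hd : ∀ ⦃a⦄, a ∈ (I'.support : Set Y') → a ∉ ((h' ⁻¹ᵁ U : Y'.Opens) : Set Y') :=
      Set.disjoint_left.1 hcadm.2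
    refine @hd hWne.some ?_ ?_
    · rw [h0, Scheme.IdealSheafData.support_bot]; trivial
    · rw [hpre]; exact hWne.some_mem
  obtain ⟨hY, -, -⟩ := S2348.result I' hI'bot c hc
  haveI := hY
  refine ⟨J, fun x hx hxU => Set.disjoint_left.1 hJadm.2 hx hxU, Y, c ≫ h', hcf, inferInstance, ?_⟩
  -- the source is also a blow-up of the compactification, with centre off `U`
  obtain ⟨𝓚, h𝓚, hsupp, hβ⟩ := S1694.result Z I hIadm.1 b hb I' hcadm.1 c hc
  have h𝓚R : (𝓚.support : Set Z) ⊆ (Set.range j.base)ᶜ := by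
    rw [hsupp]
    refine Set.union_subset (fun z hz hz' => Set.disjoint_left.1 hIadm.2 hz hz') ?_
    rintro _ ⟨x, hx, rfl⟩ hx'
    refine Set.disjoint_left.1 hcadm.2 hx ?_
    rw [hpre]
    exact hx'
  haveI : CompactSpace Y :=
    QuasiCompact.compactSpace_of_compactSpace ((c ≫ b) ≫ q)
  haveI : IsLocallyNoetherian Y := LocallyOfFiniteType.isLocallyNoetherian ((c ≫ b) ≫ q)
  let E := 𝓚.comap (c ≫ b)
  have hE : BlowUp.IsEffCartierIdeal E := hβ.1
  let K := CohB1.tensorPow K₀ 1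
  have hK : CohB1.IsAmple K := (AmpleLib.isAmple_tensorPow_iff hK₀.1 Nat.one_pos).2 hK₀
  obtain ⟨n₀, -, hn₀⟩ := S2331.result (c ≫ b) q (ClSub.idealMod E) K
    (BlowUp.RelAmple.isRelAmple_exceptional hβ h𝓚) (AmpleLib.isRelAmple_of_isAmple q hK)
  -- the pullback of the boundary
  obtain ⟨t, ht, -⟩ := Props.GenPull.exists_pull (c ≫ b) (L := K₀) hK₀.1 (K := 1) s
  have htset : ((CohB1.genLocus _ t : Y.Opens) : Set Y) = (fun y => (c ≫ h') y) ⁻¹' (U : Set X) := by
    rw [ht]
    show (fun y => (c ≫ b) y) ⁻¹' ((CohB1.genLocus _ s : Z.Opens) : Set Z) = _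
    rw [hs]
    ext y
    show c y ∈ W ↔ c y ∈ h' ⁻¹ᵁ U
    rw [hpre]
  have hL1 := AmpleLib.isInvertible_tensorPow (PicCl.isInvertible_pullback (c ≫ b) hK₀.1) 1
  have htne : ((CohB1.genLocus _ t : Y.Opens) : Set Y).Nonempty := by
    haveI := BlowUp.Basic.isIso_restrict hc (h' ⁻¹ᵁ U) hcadm.2.symm
    let z := (inv (c ∣_ (h' ⁻¹ᵁ U))) ⟨hWne.some, hpre.symm ▸ hWne.some_mem⟩
    rw [htset]
    exact ⟨z.1, z.2⟩
  obtain ⟨H, hH, hHs, hHinv⟩ := exists_divisor_support hL1 t fun x =>
    ⟨genericPoint Y, (genericPoint_spec Y).specializes (Set.mem_univ x),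
      ((genericPoint_spec Y).mem_open_set_iff (CohB1.genLocus _ t).2).2 (by rwa [Set.univ_inter])⟩
  have hEH : (E.support : Set Y) ⊆ (H.support : Set Y) := by
    rw [hHs, ht, Scheme.IdealSheafData.support_comap]
    intro y hy hy'
    refine h𝓚R hy ?_
    rw [← hs]
    exact hy'
  obtain ⟨n, hn⟩ := BlowSep.exists_pow_le H E (ModPairLib.Divide.isFiniteTypeIdeal_of_effCartier hH) hEH
  let N := max n₀ (n + 1)
  let R := ModPairLib.Divide.quot (H ^ n) E (ModPairLib.Divide.isFiniteTypeIdeal_of_effCartier hE)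
  have hR : R * E = H ^ n := ModPairLib.Divide.quot_mul_eq hE hn
  have hReff : BlowUp.IsEffCartierIdeal R :=
    IdealSh.EffCartier.factor_left (hR.symm ▸ IdealSh.EffCartier.pow hH n)
  let D := R * H ^ (N - n)
  have hDeff : BlowUp.IsEffCartierIdeal D :=
    IdealSh.EffCartier.mul hReff (IdealSh.EffCartier.pow hH _)
  have hDE : D * E = H ^ N := by
    rw [mul_right_comm, hR, ← pow_add]
    congr 1
    omega
  let P := (Scheme.Modules.pullback (c ≫ b)).obj (CohB1.tensorPow K N)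
  have hPinv : VertInter.IsInv P (H ^ N) := by
    obtain ⟨hi, ⟨e⟩⟩ := VertInter.inv_pow hH hHinv N
    obtain ⟨φ₁⟩ := AmpleLib.exists_iso_pullback_tensorPow (c ≫ b) hK₀.1 1
    obtain ⟨φN⟩ := AmpleLib.exists_iso_pullback_tensorPow (c ≫ b) hK.1 N
    let ψ := AmpleLib.tensorPowIso φ₁ N
    exact ⟨PicCl.isInvertible_pullback _ (AmpleLib.isInvertible_tensorPow hK.1 N),
      ⟨ProjTwist.tensCongr (φN ≪≫ ψ) (Iso.refl _) ≪≫ e⟩⟩
  refine ⟨D, CohB1.tensorMod (ClSub.idealMod E) P, hDeff, ?_, ?_, ?_⟩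
  · have h1 : ∀ m, ((H ^ m).support : Set Y) ⊆ (H.support : Set Y) := fun m => by
      rcases m with _ | m
      · intro y hy
        rw [pow_zero, Scheme.IdealSheafData.one_eq_top, Scheme.IdealSheafData.support_top] at hy
        exact hy.elim
      · rw [Scheme.IdealSheafData.support_pow_succ]
    have h2 : (R.support : Set Y) ⊆ (H.support : Set Y) := by
      refine Set.Subset.trans ?_ (h1 n)
      rw [← hR, Scheme.IdealSheafData.support_mul]
      exact Set.subset_union_left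
    rw [Scheme.IdealSheafData.support_mul, Scheme.IdealSheafData.support_pow _ _ (by omega)]
    show (R.support : Set Y) ∪ (H.support : Set Y) = _
    rw [Set.union_eq_right.2 h2, hHs, htset, ← Set.preimage_compl]
  · obtain ⟨e⟩ := hPinv.2
    obtain ⟨m⟩ := VertInter.nonempty_idealMod_mul hDeff hE
    exact ⟨ProjTwist.tensAssoc _ _ _ ≪≫ ProjTwist.tensComm _ _ ≪≫ ProjTwist.tensAssoc _ _ _ ≪≫
      ProjTwist.tensCongr (Iso.refl P) (m ≪≫ eqToIso (congrArg ClSub.idealMod hDE)) ≪≫ e⟩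
  · exact (AmpleLib.isRelAmple_iff_isAmple ((c ≫ b) ≫ q)).1 (hn₀ N (le_max_left _ _))

end Groth.Agent.AffBlow94

end
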