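import Groth.Agent.VertInter.Section

/-!
# The zero divisor of a regular section, with its support
-/

set_option autoImplicit false
set_option linter.style.haveILetI false
universe u
open CategoryTheory CategoryTheory.Limits AlgebraicGeometry TopologicalSpace
open Groth.Agent.QCoh Groth.Agent.Props.GenLocus Groth.Agent.Props.GenTensor

namespace Groth.Agent.AffBlow94

variable {X : Scheme.{u}}

/-- The zero divisor of a regular section, supported where the section does not generate. -/
theorem exists_divisor_support {L : X.Modules} (hL : PicF.IsInvertible L)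
    (s : Coh.structureModule X ⟶ L) [∀ x : X, IsDomain (X.presheaf.stalk x)]
    (hs : ∀ x : X, ∃ z : X, z ⤳ x ∧ z ∈ CohB1.genLocus L s) :
    ∃ D : X.IdealSheafData, BlowUp.IsEffCartierIdeal D ∧
      (D.support : Set X) = ((CohB1.genLocus L s : X.Opens) : Set X)ᶜ ∧ VertInter.IsInv L D := by
  let D := PicF2.zeroScheme L s
  have hregr : ∀ (V : X.Opens) (U : X.Opens) (h : V ≤ U) (e : Γ(L, U)), IsGen L U e → ∀ f : Γ(X, U),
      sec s U = f • e → rres h f ∈ nonZeroDivisors Γ(X, V) := by
    intro V U h e he f hf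
    refine IdealSh.Regular.mem_nonZeroDivisors_of_germ fun x hx => mem_nonZeroDivisors_of_ne_zero fun h0 => ?_
    rw [show X.presheaf.germ V x hx (rres h f) = X.presheaf.germ U x (h hx) f from
      X.presheaf.germ_res_apply _ x hx f] at h0
    obtain ⟨z, hzx, hz⟩ := hs x
    have hzU : z ∈ U := hzx.mem_open U.isOpen (h hx)
    have hzb : z ∈ X.basicOpen f := by rw [← genLocus_inf he s hf]; exact ⟨hz, hzU⟩
    have hu := (Scheme.mem_basicOpen _ _ z hzU).mp hzb
    have h2 := congrArg (X.presheaf.stalkSpecializes hzx) h0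
    rw [TopCat.Presheaf.germ_stalkSpecializes_apply, map_zero] at h2
    rw [h2] at hu
    exact not_isUnit_zero hu
  have loc : ∀ x : X, ∃ (U : X.affineOpens) (e : Γ(L, U.1)) (f : Γ(X, U.1)) (σ : Γ(ClSub.idealMod D, U.1)),
      x ∈ U.1 ∧ IsGen L U.1 e ∧ sec s U.1 = f • e ∧ IsGen (ClSub.idealMod D) U.1 σ ∧
      OmegaSh.idealSect D U.1 σ = f ∧ f ∈ nonZeroDivisors Γ(X, U.1) ∧ D.ideal U = Ideal.span {f} := by
    intro x
    obtain ⟨W, e0, hxW, he0⟩ := exists_isGen hL x
    obtain ⟨U, hU, hxU, hle⟩ := exists_isAffineOpen_mem_and_subset (show x ∈ W from hxW)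
    have he := he0.restrict hle
    obtain ⟨f, hf, -⟩ := he.exists_eq (le_refl U) (sec s U)
    rw [res_self] at hf
    have hid := ZeroSchemeLib.zeroScheme_ideal_eq_span hL s ⟨U, hU⟩ he (f := f) hf
    have hnz : f ∈ nonZeroDivisors Γ(X, U) := by
      have := hregr U U le_rfl _ he f hf
      rwa [show rres (le_refl U) f = f from by simp [rres]] at this
    obtain ⟨σ, hσ, hσf⟩ := CartDiv.Difference.exists_isGen_ideal D (U := ⟨U, hU⟩) hnz hid
    exact ⟨⟨U, hU⟩, _, f, σ, hxU, he, hf, hσ, hσf, hnz, hid⟩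
  choose U e f σ hxU he hf hσ hσf hnz hid using loc
  have hD : BlowUp.IsEffCartierIdeal D := fun x => ⟨U x, hxU x, f x, hnz x, hid x⟩
  refine ⟨D, hD, ?_, hL, ?_⟩
  · exact AffCompl47.support_zeroScheme hL s
  refine PicLaw.nonempty_iso_of_transition (fun x => (U x).1) (fun x => ⟨x, hxU x⟩)
    (fun x => tmul (e x) (σ x)) (fun x => isGen_tmul (he x) (hσ x))
    (fun x => one' (U x).1) (fun x => CartFilt.isGen_one _) ?_
  intro i j V hi hj
  obtain ⟨c, hc, -⟩ := (he i).exists_eq hi (res L hj (e j))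
  obtain ⟨d, hd, -⟩ := (hσ i).exists_eq hi (res (ClSub.idealMod D) hj (σ j))
  have h1 : rres hi (f i) = rres hj (f j) * c := by
    refine (he i).injective hi ?_
    rw [← res_smul, ← hf i, sec_res, ← sec_res s hj, hf j, res_smul, hc, smul_smul]
  have h2 : rres hj (f j) = d * rres hi (f i) := by
    have h := congrArg (OmegaSh.idealSect D V) hd
    rw [Omega.Stalks.idealSect_smul] at h
    rw [show OmegaSh.idealSect D V (res (ClSub.idealMod D) hj (σ j)) =
        rres hj (OmegaSh.idealSect D (U j).1 (σ j)) from Omega.Stalks.idealSect_map D _ _,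
      show OmegaSh.idealSect D V (res (ClSub.idealMod D) hi (σ i)) =
        rres hi (OmegaSh.idealSect D (U i).1 (σ i)) from Omega.Stalks.idealSect_map D _ _, hσf, hσf] at h
    exact h
  have hcd : c * d = 1 := by
    have hn := hregr V (U i).1 hi _ (he i) (f i) (hf i)
    refine ((mul_cancel_right_mem_nonZeroDivisors hn).mp ?_)
    rw [one_mul]
    calc c * d * rres hi (f i) = rres hj (f j) * c := by rw [h2]; ring
      _ = _ := h1.symm
  refine ⟨1, ?_, ?_⟩
  · rw [res_tmul, res_tmul, hc, hd, tmul_smul_left, tmul_smul_right, smul_smul, hcd]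
  · rw [one_smul, PicLaw.res_one', PicLaw.res_one']

end Groth.Agent.AffBlow94
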